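import Groth.Prelude.Def_HTop2
import Groth.Prelude.Def_W4c1hilbchowincPtFun
import Groth.Agent.S15941
import Mathlib

set_option autoImplicit false
universe u
open CategoryTheory AlgebraicGeometry W4c1hilbchowinc

namespace Groth.Agent.Helper19.HTopSN

/-- On a reduced scheme, a global section all of whose values vanish is zero. -/
theorem eq_zero_of_forall_Γevaluation (X : Scheme.{u}) [IsReduced X] (t : Γ(X, ⊤))
    (h : ∀ p : X, X.Γevaluation p t = 0) : t = 0 := by
  rw [← AlgebraicGeometry.basicOpen_eq_bot_iff]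
  rw [X.basicOpen_eq_bot_iff_forall_evaluation_eq_zero]
  intro p
  exact h p.1

/-- the "cusp quotient" pointwise function. -/
noncomputable def cuspFun (X : Scheme.{u}) (xs ys : Γ(X, ⊤)) : PtFun X := by
  classical
  exact fun p => if X.Γevaluation p xs = 0 then 0 else X.Γevaluation p ys / X.Γevaluation p xs

theorem ofSection_eq_cuspFun (X : Scheme.{u}) (xs ys b : Γ(X, ⊤))
    (h2 : xs = b ^ 2) (h3 : ys = b ^ 3) : PtFun.ofSection X b = cuspFun X xs ys := by
  classical
  funext p
  simp only [PtFun.ofSection, cuspFun]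
  have e2 : X.Γevaluation p xs = (X.Γevaluation p b) ^ 2 := by rw [h2, map_pow]
  have e3 : X.Γevaluation p ys = (X.Γevaluation p b) ^ 3 := by rw [h3, map_pow]
  split_ifs with h0
  · rw [e2] at h0
    exact (pow_eq_zero_iff (by norm_num)).mp h0
  · rw [e2] at h0
    have hb : X.Γevaluation p b ≠ 0 := fun hb => h0 (by rw [hb]; ring)
    rw [e2, e3]
    field_simp

theorem cuspFun_sq (X : Scheme.{u}) (xs ys : Γ(X, ⊤)) (hxy : xs ^ 3 = ys ^ 2) (p : X) :
    (cuspFun X xs ys p) ^ 2 = X.Γevaluation p xs ∧ (cuspFun X xs ys p) ^ 3 = X.Γevaluation p ys := by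
  classical
  have e : (X.Γevaluation p xs) ^ 3 = (X.Γevaluation p ys) ^ 2 := by
    rw [← map_pow, ← map_pow, hxy]
  simp only [cuspFun]
  split_ifs with h0
  · rw [h0] at e
    have hy : X.Γevaluation p ys = 0 := by
      have : (X.Γevaluation p ys) ^ 2 = 0 := by rw [← e]; ring
      exact (pow_eq_zero_iff (by norm_num)).mp this
    rw [h0, hy]; constructor <;> ring
  · constructor
    · rw [div_pow, ← e]; field_simp
    · rw [div_pow]
      rw [div_eq_iff (pow_ne_zero 3 h0), e]; ring

end Groth.Agent.Helper19.HTopSN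

namespace Groth.Agent.Helper19.HTopSN

open W4c1hilbchowinc

theorem cuspFun_variesAlongDVR (X : Scheme.{u}) (xs ys : Γ(X, ⊤)) (hxy : xs ^ 3 = ys ^ 2) :
    (cuspFun X xs ys).VariesAlongDVR := by
  classical
  intro R _ _ _ g
  let e : Γ(Spec (CommRingCat.of R), ⊤) ≃+* R :=
    (Scheme.ΓSpecIso (CommRingCat.of R)).commRingCatIsoToRingEquiv
  haveI : IsDomain Γ(Spec (CommRingCat.of R), ⊤) := MulEquiv.isDomain R e.toMulEquiv
  haveI : IsIntegrallyClosed Γ(Spec (CommRingCat.of R), ⊤) :=
    IsIntegrallyClosed.of_equiv e.symm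
  have hsn := Groth.Agent.S15941.result Γ(Spec (CommRingCat.of R), ⊤)
  have hxy' : (g.appTop xs) ^ 3 = (g.appTop ys) ^ 2 := by
    rw [← map_pow, ← map_pow, hxy]
  obtain ⟨s, ⟨hs2, hs3⟩, -⟩ := hsn _ _ hxy'
  refine ⟨s, ?_⟩
  rw [ofSection_eq_cuspFun _ _ _ s hs2 hs3]
  funext q
  simp only [cuspFun, PtFun.pullback]
  have nx := Scheme.Γevaluation_naturality_apply g q xs
  have ny := Scheme.Γevaluation_naturality_apply g q ys
  rw [← nx, ← ny]
  by_cases h0 : X.Γevaluation (g q) xs = 0
  · simp [h0]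
  · have h1 : (g.residueFieldMap q) (X.Γevaluation (g q) xs) ≠ 0 := by
      intro h
      apply h0
      exact (map_eq_zero_iff _ (RingHom.injective _)).mp h
    rw [if_neg h0, if_neg h1, map_div₀]

end Groth.Agent.Helper19.HTopSN
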